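import Mathlib
import Cfsg.Agent.S0919
import Cfsg.Agent.S0936
import Cfsg.Agent.S0941
import Cfsg.Agent.S0964
import Cfsg.Agent.Blocks.Over
import Cfsg.Agent.Blocks.Covering
import Cfsg.Agent.Blocks.PrincipalInflate
import Cfsg.Prelude.Def_CaseTheorems
import Cfsg.Agent.S0914
import Cfsg.Agent.FastGrp
import Cfsg.Agent.Prune
set_option linter.all false

section
prune_inst 0x7f00000000000000000000000000000000000000000000000000000000000000000000000000000000000000000000000000000000000000000000000000000000000000000000000000000000000000003fffffffffffffffffffffffffffbeffbdffffffff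

-- part: H526/OneBlock
section
set_option linter.all false
open scoped Cfsg.Agent.FastGrp

/-!
# Groups with more than one 2-block (S5004, S5007)

`NB G`: for every maximal ideal `M` over `2` some irreducible character of `G` is outside the
principal block.  Rules:

* `NB.iso`;
* `NB.of_odd_normal`: a nontrivial normal subgroup of odd order;
* `NB.of_normal`: from a normal subgroup;
* `NB.of_sup_centralizer`, `NB.of_centralizer`: from `C_G(Q)`, `Q` a 2-subgroup;
* `NB.of_surjective`: from a quotient by a central 2-subgroup.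
-/

set_option autoImplicit false
open Cfsg

namespace Cfsg.Agent.H526.OB

open Cfsg.Agent Cfsg.Agent.Characters.Core

/-- `G` has more than one 2-block. -/
def NB (G : Type*) [Group G] : Prop :=
  ∀ M : Ideal AlgInt, IsPModular 2 M → ∃ χ : IrrCharacter G, χ ∉ principalBlock M G

/-- `G` has exactly one 2-block, relative to `M`. -/
def OneB (M : Ideal AlgInt) (G : Type*) [Group G] : Prop :=
  ∀ χ : IrrCharacter G, χ ∈ principalBlock M G

theorem NB.not_oneB {G : Type*} [Group G] (h : NB G) {M : Ideal AlgInt} (hM : IsPModular 2 M) :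
    ¬ OneB M G := fun h1 => by
  obtain ⟨χ, hχ⟩ := h M hM
  exact hχ (h1 χ)

/-- the principal character -/
def triv (G : Type*) [Group G] : IrrCharacter G := ⟨fun _ => 1, Blocks.Basic.isIrrCharacter_one⟩

theorem OneB.iso {G H : Type*} [Group G] [Group H] {M : Ideal AlgInt} (e : G ≃* H)
    (h : OneB M G) : OneB M H := by
  intro θ g
  have h0 := h ⟨fun x => (θ : H → ℂ) (e x), Blocks.CliffordCentral.isIrrCharacter_comp θ.2
    e.toMonoidHom e.surjective⟩ (e.symm g)
  have h1 := Blocks.Covering.centralChar_comp_equiv e (θ : H → ℂ) (e.symm g)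
  have h2 := Blocks.Covering.centralChar_comp_equiv e (fun _ : H => (1 : ℂ)) (e.symm g)
  change MemLocalIdeal M (centralChar (fun _ : G => (1 : ℂ)) (e.symm g) -
    centralChar (fun x => (θ : H → ℂ) (e x)) (e.symm g)) at h0
  rw [h1] at h0
  rw [h2] at h0
  rw [MulEquiv.apply_symm_apply] at h0
  exact h0

theorem NB.iso {G H : Type*} [Group G] [Group H] (e : G ≃* H) (h : NB G) : NB H := by
  intro M hM
  by_contra hcon
  push Not at hcon
  exact h.not_oneB hM (OneB.iso e.symm hcon)

section

variable {G : Type*} [Group G] [Finite G] {M : Ideal AlgInt}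

theorem OneB.normal (hM : IsPModular 2 M) (h : OneB M G) (N : Subgroup G) [hN : N.Normal] :
    OneB M N := by
  classical
  have : Fact (Nat.Prime 2) := ⟨Nat.prime_two⟩
  let _ : Fintype G := Fintype.ofFinite G
  let _ : Fintype N := Fintype.ofFinite N
  intro θ
  obtain ⟨χ, hχ⟩ := Blocks.Over.exists_over N θ
  have hcon : classInner (fun n : N => ((triv G : IrrCharacter G) : G → ℂ) n)
      ((triv N : IrrCharacter N) : N → ℂ) ≠ 0 := by
    have h1 : (fun n : N => ((triv G : IrrCharacter G) : G → ℂ) n) =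
      ((triv N : IrrCharacter N) : N → ℂ) := rfl
    rw [h1]
    rw [classInner_irr_self (triv N).2]
    exact one_ne_zero
  have hblkG : IsPBlock M (principalBlock M G) := ⟨triv G, rfl⟩
  have hblkN : IsPBlock M (principalBlock M N) := ⟨triv N, rfl⟩
  have htN : triv N ∈ principalBlock M N := by
    have := Blocks.Local.isPrime_of_isPModular hM
    exact Blocks.Basic.sameBlock_refl _
  obtain ⟨g, θ', hθ', hg⟩ := S0964.result 2 M hM N (principalBlock M G) hblkG (principalBlock M N)
    hblkN (triv G) (h _) (triv N) htN hcon χ (h χ) θ hχ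
  -- `θ` is a conjugate of `θ'`
  let e : N ≃* N := MulAut.conjNormal g
  intro n
  have h1 := Blocks.Covering.centralChar_comp_equiv e (θ' : N → ℂ) n
  have h2 := Blocks.Covering.centralChar_comp_equiv e (fun _ : N => (1 : ℂ)) n
  have h3 : (θ : N → ℂ) = fun x => (θ' : N → ℂ) (e x) := by
    funext x
    rw [hg x]
    congr 1
  change MemLocalIdeal M (centralChar (fun _ : N => (1 : ℂ)) n - centralChar (θ : N → ℂ) n)
  rw [h3, h1]
  rw [h2]
  exact hθ' (e n)

theorem NB.of_normal (N : Subgroup G) [N.Normal] (h : NB N) : NB G := by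
  intro M hM
  by_contra hcon
  push Not at hcon
  exact h.not_oneB hM (OneB.normal hM hcon N)

theorem OneB.sup_centralizer (hM : IsPModular 2 M) (h : OneB M G) (Q H : Subgroup G)
    (hQ : IsPGroup 2 Q) (hQH : Q ≤ H) (hCH : Subgroup.centralizer (Q : Set G) ≤ H)
    (hHN : H ≤ Subgroup.normalizer (Q : Set G)) : OneB M H := by
  have : Fact (Nat.Prime 2) := ⟨Nat.prime_two⟩
  intro θ
  have hprime := Blocks.Local.isPrime_of_isPModular hM
  have hb : IsPBlock M (blockOf M (θ : H → ℂ)) := ⟨θ, rfl⟩
  have hdef := S0919.result 2 M hM Q H hQ hQH hCH hHN _ hb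
  have key := S0936.result 2 M hM H _ hdef
  obtain ⟨B, hB⟩ := hdef
  obtain ⟨χ, hχ⟩ := hB.2.1
  have hBp : B = principalBlock M G := by
    rw [hχ]
    ext ψ
    constructor
    · intro _
      exact h ψ
    · intro _
      have h1 : SameBlock M (fun _ : G => (1 : ℂ)) (χ : G → ℂ) := h χ
      have h2 : SameBlock M (fun _ : G => (1 : ℂ)) (ψ : G → ℂ) := h ψ
      exact Blocks.Basic.sameBlock_trans (Blocks.Basic.sameBlock_symm h1) h2
  rw [hBp] at hB
  have h3 := key.1 hB
  have h4 : θ ∈ blockOf M (θ : H → ℂ) := Blocks.Basic.sameBlock_refl _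
  rw [h3] at h4
  exact h4

/-- one block passes to the centralizers of 2-subgroups -/
theorem OneB.centralizer (hM : IsPModular 2 M) (h : OneB M G) (Q : Subgroup G)
    (hQ : IsPGroup 2 Q) : OneB M ↥(Subgroup.centralizer (Q : Set G)) := by
  set C := Subgroup.centralizer (Q : Set G) with hC
  set H := Q ⊔ C with hH
  have hCN : C ≤ Subgroup.normalizer (Q : Set G) := Subgroup.centralizer_le_normalizer _
  have hHN : H ≤ Subgroup.normalizer (Q : Set G) := sup_le Subgroup.le_normalizer hCN
  have h1 := OneB.sup_centralizer hM h Q H hQ le_sup_left le_sup_right hHN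
  have hn : (C.subgroupOf H).Normal := by
    constructor
    intro c hc x
    rw [Subgroup.mem_subgroupOf] at hc ⊢
    rw [hC, Subgroup.mem_centralizer_iff] at hc ⊢
    intro q hq
    have hx : (x : G) ∈ Subgroup.normalizer (Q : Set G) := hHN x.2
    have h2 : (x : G)⁻¹ * q * x ∈ Q := by
      have := (Subgroup.mem_normalizer_iff.1 (inv_mem hx) q).1 hq
      rwa [inv_inv] at this
    have h3 := hc _ h2
    show q * ((x : G) * c * (x : G)⁻¹) = (x : G) * c * (x : G)⁻¹ * q
    calc q * ((x : G) * c * (x : G)⁻¹) = x * (((x : G)⁻¹ * q * x) * c) * (x : G)⁻¹ := by group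
      _ = x * (c * ((x : G)⁻¹ * q * x)) * (x : G)⁻¹ := by rw [h3]
      _ = (x : G) * c * (x : G)⁻¹ * q := by group
  have h2 := OneB.normal hM h1 (C.subgroupOf H)
  exact OneB.iso (Subgroup.subgroupOfEquivOfLe (le_sup_right : C ≤ H)) h2

theorem NB.of_centralizer (Q : Subgroup G) (hQ : IsPGroup 2 Q)
    (h : NB ↥(Subgroup.centralizer (Q : Set G))) : NB G := by
  intro M hM
  by_contra hcon
  push Not at hcon
  exact h.not_oneB hM (OneB.centralizer hM hcon Q hQ)

/-- from the centralizer of one 2-element -/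
theorem NB.of_centralizer_singleton (t : G) (ht : ∃ k : ℕ, t ^ 2 ^ k = 1)
    (h : NB ↥(Subgroup.centralizer ({t} : Set G))) : NB G := by
  have e : Subgroup.centralizer ((Subgroup.zpowers t : Subgroup G) : Set G) =
      Subgroup.centralizer ({t} : Set G) := by
    rw [Subgroup.zpowers_eq_closure]
    exact Subgroup.centralizer_closure _
  have hQ : IsPGroup 2 (Subgroup.zpowers t) := by
    obtain ⟨k, hk⟩ := ht
    rintro ⟨x, hx⟩
    obtain ⟨i, rfl⟩ := Subgroup.mem_zpowers_iff.1 hx
    refine ⟨k, Subtype.ext ?_⟩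
    show (t ^ i) ^ 2 ^ k = 1
    rw [← zpow_natCast, ← zpow_mul, mul_comm, zpow_mul, zpow_natCast, hk, one_zpow]
  refine NB.of_centralizer (Subgroup.zpowers t) hQ ?_
  rw [e]
  exact h

/-- one block: no nontrivial normal subgroup of odd order -/
theorem OneB.eq_bot_of_odd (hM : IsPModular 2 M) (h : OneB M G) (N : Subgroup G) [N.Normal]
    (hN : Odd (Nat.card N)) : N = ⊥ := by
  classical
  have hN2 : ¬ 2 ∣ Nat.card N := by
    intro h2
    exact (Nat.not_even_iff_odd.2 hN) (even_iff_two_dvd.2 h2)
  let _ : Fintype G := Fintype.ofFinite G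
  rw [eq_bot_iff]
  intro n hn
  rw [Subgroup.mem_bot]
  have hfin := finite_irr (G := G)
  have := Fintype.ofFinite (IrrCharacter G)
  let f : G → ℂ := fun g => if g = 1 then 1 else 0
  have hf : IsClassFunction G f := by
    intro g x
    simp only [f]
    congr 1
    simp
  have h1 := classFunction_eq_sum hf
  have h2 : f n = f 1 := by
    rw [h1]
    simp only [Finset.sum_apply, Pi.smul_apply]
    refine Finset.sum_congr rfl fun χ _ => ?_
    have h3 := Blocks.PrincipalInflate.apply_mul hM hN2 (h χ) hn 1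
    rw [mul_one] at h3
    rw [h3]
  by_contra hn1
  simp only [f, if_neg hn1, if_pos] at h2
  exact zero_ne_one h2

theorem NB.of_odd_normal (N : Subgroup G) [N.Normal] (hN : Odd (Nat.card N)) (h1 : N ≠ ⊥) :
    NB G := by
  intro M hM
  by_contra hcon
  push Not at hcon
  exact h1 (OneB.eq_bot_of_odd hM hcon N hN)

/-- one block passes to quotients by central 2-subgroups -/
theorem OneB.quotient (hM : IsPModular 2 M) (h : OneB M G) (Z : Subgroup G) [Z.Normal]
    (hZ : Z ≤ Subgroup.center G) (hZ2 : IsPGroup 2 Z) : OneB M (G ⧸ Z) := by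
  have : Fact (Nat.Prime 2) := ⟨Nat.prime_two⟩
  have hprime := Blocks.Local.isPrime_of_isPModular hM
  have hC : ∃ k : ℕ, (Subgroup.centralizer (Z : Set G)).index = 2 ^ k := by
    refine ⟨0, ?_⟩
    have : Subgroup.centralizer (Z : Set G) = ⊤ := by
      rw [eq_top_iff]
      intro g _
      rw [Subgroup.mem_centralizer_iff]
      intro z hz
      exact ((Subgroup.mem_center_iff.1 (hZ hz)) g).symm
    rw [this, Subgroup.index_top, pow_zero]
  have key := (S0941.result 2 M hM Z hZ2 hC).1
  intro χ
  have h1 := (key (triv (G ⧸ Z)) χ).2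
  refine h1 ?_
  have h2 : IsIrrCharacter G ((χ : G ⧸ Z → ℂ) ∘ (QuotientGroup.mk : G → G ⧸ Z)) :=
    Blocks.CliffordCentral.isIrrCharacter_comp χ.2 (QuotientGroup.mk' Z)
      (QuotientGroup.mk'_surjective Z)
  exact h ⟨_, h2⟩

/-- `f : G → S` onto with central kernel: one block passes to `S` -/
theorem OneB.surjective (hM : IsPModular 2 M) (h : OneB M G) {S : Type*} [Group S] (f : G →* S)
    (hf : Function.Surjective f) (hker : f.ker ≤ Subgroup.center G) : OneB M S := by
  have : Fact (Nat.Prime 2) := ⟨Nat.prime_two⟩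
  -- the kernel is a 2-group
  have hodd : ∀ z ∈ f.ker, Odd (orderOf z) → z = 1 := by
    intro z hz ho
    have hn : (Subgroup.zpowers z).Normal := by
      constructor
      intro x hx g
      obtain ⟨i, rfl⟩ := Subgroup.mem_zpowers_iff.1 hx
      have hc := (Subgroup.mem_center_iff.1 (hker hz)) g
      have : g * z ^ i * g⁻¹ = z ^ i := by
        rw [mul_inv_eq_iff_eq_mul]
        exact (show Commute g z from hc).zpow_right i
      rw [this]
      exact Subgroup.zpow_mem_zpowers z i
    have h1 := OneB.eq_bot_of_odd hM h (Subgroup.zpowers z) (by rwa [Nat.card_zpowers])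
    exact Subgroup.zpowers_eq_bot.1 h1
  have hZ2 : IsPGroup 2 f.ker := by
    rintro ⟨z, hz⟩
    obtain ⟨a, m, hm, hzo⟩ := Nat.exists_eq_two_pow_mul_odd (orderOf_pos z).ne'
    refine ⟨a, Subtype.ext ?_⟩
    show z ^ 2 ^ a = 1
    apply hodd _ (Subgroup.pow_mem _ hz _)
    rw [orderOf_pow, hzo, Nat.gcd_eq_right (Dvd.intro _ rfl), Nat.mul_div_cancel_left _ (by positivity)]
    exact hm
  exact OneB.iso (QuotientGroup.quotientKerEquivOfSurjective f hf)
    (OneB.quotient hM h f.ker hker hZ2)

theorem NB.of_surjective {S : Type*} [Group S] (f : G →* S) (hf : Function.Surjective f)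
    (hker : f.ker ≤ Subgroup.center G) (h : NB S) : NB G := by
  intro M hM
  by_contra hcon
  push Not at hcon
  exact h.not_oneB hM (OneB.surjective hM hcon f hf hker)

/-- from a quasisimple-like normal subgroup of the centralizer of a 2-subgroup -/
theorem NB.of_cover (Q : Subgroup G) (hQ : IsPGroup 2 Q) (K : Subgroup G)
    (hKQ : K ≤ Subgroup.centralizer (Q : Set G))
    (hn : ∀ c ∈ Subgroup.centralizer (Q : Set G), ∀ k ∈ K, c * k * c⁻¹ ∈ K)
    {S : Type*} [Group S] (f : K →* S) (hf : Function.Surjective f)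
    (hker : f.ker ≤ Subgroup.center K) (h : NB S) : NB G := by
  apply NB.of_centralizer Q hQ
  have hN : (K.subgroupOf (Subgroup.centralizer (Q : Set G))).Normal := by
    constructor
    intro k hk c
    rw [Subgroup.mem_subgroupOf] at hk ⊢
    exact hn c c.2 _ hk
  have h1 : NB K := NB.of_surjective f hf hker h
  exact NB.of_normal (K.subgroupOf (Subgroup.centralizer (Q : Set G)))
    (NB.iso (Subgroup.subgroupOfEquivOfLe hKQ).symm h1)

theorem NB.of_simple_le (Q : Subgroup G) (hQ : IsPGroup 2 Q) (K : Subgroup G)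
    (hKQ : K ≤ Subgroup.centralizer (Q : Set G))
    (hn : ∀ c ∈ Subgroup.centralizer (Q : Set G), ∀ k ∈ K, c * k * c⁻¹ ∈ K)
    (h : NB K) : NB G :=
  NB.of_cover Q hQ K hKQ hn (MonoidHom.id K) (fun x => ⟨x, rfl⟩)
    (by rw [MonoidHom.ker_id]; exact bot_le) h

end

end Cfsg.Agent.H526.OB
end

-- part: H894/DefZero
section
set_option linter.all false
open scoped Cfsg.Agent.FastGrp

/-!
# A character of 2-defect zero gives more than one 2-block (helper894)
-/

set_option autoImplicit false

open Cfsg

namespace Cfsg.Agent.H894.DefZero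

open Cfsg.Agent.Characters.Core
open Cfsg.Agent.H526.OB

/-- a nontrivial irreducible character of `p`-defect zero is not in the principal block -/
theorem notMem_principalBlock {G : Type*} [Group G] [Finite G] {p : ℕ} [Fact p.Prime] {M : Ideal AlgInt}
    (hM : IsPModular p M) (χ : IrrCharacter G) (h1 : charDegree (χ : G → ℂ) ≠ 1)
    (h : ¬ p ∣ Nat.card G / charDegree (χ : G → ℂ)) : χ ∉ principalBlock M G := by
  intro hχ
  have h2 := (S0914.result p M hM χ).1 h
  have h3 : triv G ∈ blockOf M (χ : G → ℂ) := by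
    have h4 : SameBlock M (fun _ : G => (1 : ℂ)) (χ : G → ℂ) := hχ
    have hprime : M.IsPrime := Blocks.Local.isPrime_of_isPModular hM
    exact Blocks.Basic.sameBlock_symm h4
  rw [h2, Set.mem_singleton_iff] at h3
  apply h1
  rw [← h3]
  unfold charDegree triv
  simp

/-- **more than one 2-block from a character of 2-defect zero** -/
theorem nb_of_degree {G : Type*} [Group G] [Finite G] (χ : IrrCharacter G) (h1 : charDegree (χ : G → ℂ) ≠ 1)
    (h : ¬ 2 ∣ Nat.card G / charDegree (χ : G → ℂ)) : NB G := by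
  have : Fact (Nat.Prime 2) := ⟨Nat.prime_two⟩
  exact fun M hM => ⟨χ, notMem_principalBlock hM χ h1 h⟩

end Cfsg.Agent.H894.DefZero
end
end
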