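import Mathlib
set_option linter.all false

/-!
# Orbits of Sylow subgroups in a transitive action

`dvd_card_orbit`: if `p ^ j` divides the degree of a transitive group then it divides the length of
each orbit of a Sylow `p`-subgroup.
-/

set_option autoImplicit false

namespace Cfsg.Agent.H894

open MulAction

/-- If `G` is transitive on `Ω` and `p ^ j` divides `|Ω|` then `p ^ j` divides the length of every
orbit of a Sylow `p`-subgroup. -/
theorem dvd_card_orbit {G Ω : Type*} [Group G] [Finite G] [MulAction G Ω]
    (htr : MulAction.IsPretransitive G Ω) {p : ℕ} [hp : Fact p.Prime] (P : Sylow p G) (ω : Ω)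
    (j : ℕ) (h : p ^ j ∣ Nat.card Ω) : p ^ j ∣ Nat.card (orbit (P : Subgroup G) ω) := by
  classical
  have hG : Nat.card Ω * Nat.card (stabilizer G ω) = Nat.card G := by
    have h1 := Subgroup.card_mul_index (stabilizer G ω)
    rw [MulAction.index_stabilizer_of_transitive G ω] at h1
    rw [mul_comm]; exact h1
  have hP : Nat.card (orbit (P : Subgroup G) ω) * Nat.card (stabilizer (P : Subgroup G) ω)
      = Nat.card (P : Subgroup G) := by
    have h1 := Subgroup.card_mul_index (stabilizer (P : Subgroup G) ω)
    rw [MulAction.index_stabilizer] at h1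
    rw [mul_comm, ← h1]; rfl
  have hPc : Nat.card (P : Subgroup G) = p ^ (Nat.card G).factorization p := P.card_eq_multiplicity
  obtain ⟨c, hc⟩ := (IsPGroup.iff_card (p := p)).1
    (P.isPGroup'.to_subgroup (stabilizer (P : Subgroup G) ω))
  obtain ⟨d, -, hd⟩ := (Nat.dvd_prime_pow hp.out).1
    (Dvd.intro _ (hP.trans hPc) : Nat.card (orbit (P : Subgroup G) ω) ∣
      p ^ (Nat.card G).factorization p)
  have hdvd : p ^ c ∣ Nat.card (stabilizer G ω) := by
    rw [← hc]
    have : (stabilizer (P : Subgroup G) ω).map (P : Subgroup G).subtype ≤ stabilizer G ω := by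
      rintro _ ⟨x, hx, rfl⟩
      exact hx
    have h2 := Subgroup.card_dvd_of_le this
    rwa [Subgroup.card_map_of_injective (P : Subgroup G).subtype_injective] at h2
  have hpj : p ^ (j + c) ∣ p ^ (Nat.card G).factorization p := by
    exact pow_dvd_pow p ((Nat.Prime.pow_dvd_iff_le_factorization hp.out Nat.card_pos.ne').1
      (by rw [pow_add, ← hG]; exact mul_dvd_mul h hdvd))
  rw [← hPc, ← hP, hc, hd, ← pow_add] at hpj
  have := (Nat.pow_dvd_pow_iff_le_right hp.out.one_lt).1 hpj
  rw [hd]
  exact pow_dvd_pow p (by omega)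

end Cfsg.Agent.H894
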